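import Groth.Agent.Lib.CurveAmple18.Basic
import Groth.Agent.Lib.AmpleFin18.PushEuler
import Groth.Agent.Lib.CohFound.DevissageModel
import Groth.Agent.Lib.CohFound.DevissageApps
import Groth.Agent.Lib.Cyc26.Stalk
import Groth.Agent.Lib.RatFunH11.Product
import Groth.Agent.Lib.RedSep.Basic
import Mathlib.RingTheory.Length

/-!
# Degrees and irreducible components

For `F` coherent and `E` locally free of rank `n` on a proper scheme of dimension at most one,
`χ(F ⊗ E) - n χ(F) = ∑_Z ℓ_Z(F) deg(E|Z)`.
-/

set_option autoImplicit false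
set_option linter.style.haveILetI false
set_option maxHeartbeats 800000
set_option backward.isDefEq.respectTransparency false

universe u

open CategoryTheory Limits AlgebraicGeometry TopologicalSpace Opposite

namespace Groth.Agent.CompDeg18

open Groth.Agent.CurveCoh17 Groth.Agent.CohFound Groth.Agent.RatFunH11

variable {X : Scheme.{u}}

/-- The length of the stalk at the generic point of a component. -/
noncomputable def len (F : X.Modules) (Z : irreducibleComponents (X : Type u)) : ℤ :=
  ((Module.length (X.presheaf.stalk (gen Z)) (F.presheaf.stalk (gen Z))).toNat : ℤ)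

theorem len_shortExact [IsNoetherian X] {S : ShortComplex X.Modules} (hS : S.ShortExact)
    (h₁ : Coh.IsCoh S.X₁) (h₃ : Coh.IsCoh S.X₃) (Z : irreducibleComponents (X : Type u)) :
    len S.X₂ Z = len S.X₁ Z + len S.X₃ Z := by
  obtain ⟨hi, he, hs⟩ := Cyc26.stalkLin_exact hS (gen Z)
  have f1 := Cyc26.length_stalk_ne_top h₁ (ξ := gen Z) fun y _ hy => eq_of_specializes_gen Z hy
  have f3 := Cyc26.length_stalk_ne_top h₃ (ξ := gen Z) fun y _ hy => eq_of_specializes_gen Z hy
  simp only [len]
  rw [Module.length_eq_add_of_exact _ _ hi hs he, ENat.toNat_add f1 f3]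
  push_cast
  rfl

theorem len_eq_zero (F : X.Modules) (Z : irreducibleComponents (X : Type u))
    (h : Subsingleton (F.presheaf.stalk (gen Z))) : len F Z = 0 := by
  haveI := h
  simp [len, Module.length_eq_zero]

variable {C : Scheme.{u}} (i : C ⟶ X) [IsClosedImmersion i]

/-- The direct image of an integral component has length one at its generic point. -/
theorem len_push_self [IsIntegral C] (Z : irreducibleComponents (X : Type u)) (h : i (genericPoint C) = gen Z) :
    len ((Scheme.Modules.pushforward i).obj (Coh.structureModule C)) Z = 1 := by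
  simp only [len]
  rw [← h]
  suffices hl : Module.length (X.presheaf.stalk (i (genericPoint C)))
      (((Scheme.Modules.pushforward i).obj (Coh.structureModule C)).presheaf.stalk (i (genericPoint C))) = 1 by
    rw [hl]; rfl
  refine (Cyc26.length_stalk_push_closedImmersion i _ (genericPoint C)).trans ?_
  have e := LinearEquiv.ofBijective (LinearMap.toSpanSingleton (C.presheaf.stalk (genericPoint C))
    ((Coh.structureModule C).presheaf.stalk (genericPoint C))
    ((Coh.structureModule C).presheaf.germ ⊤ (genericPoint C) trivial (M1.one ⊤)))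
    (Cyc26.structureModule_stalk_bijective (genericPoint C))
  rw [← e.length_eq]
  haveI : IsSimpleModule (C.presheaf.stalk (genericPoint C)) (C.presheaf.stalk (genericPoint C)) := by
    letI := (Field.toIsField C.functionField : IsField (C.presheaf.stalk (genericPoint C))).toField
    exact inferInstance
  exact Module.length_eq_one _ _

theorem len_push_of_notMem (N : C.Modules) (Z : irreducibleComponents (X : Type u)) (h : gen Z ∉ Set.range i) :
    len ((Scheme.Modules.pushforward i).obj N) Z = 0 :=
  len_eq_zero _ _ ⟨fun a b => (M1.eq_zero_stalk_push i N h a).trans (M1.eq_zero_stalk_push i N h b).symm⟩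

variable {k : Type u} [Field k] [X.Over (Spec (CommRingCat.of k))]

variable (k) in
/-- `χ(F ⊗ E) - n χ(F)`. -/
noncomputable def excess (E : X.Modules) (n : ℕ) (F : X.Modules) : ℤ :=
  Curv2.euler k X (CohB1.tensorMod F E) - n * Curv2.euler k X F

theorem excess_iso (E : X.Modules) (n : ℕ) {F G : X.Modules} (e : F ≅ G) :
    excess k E n F = excess k E n G := by
  rw [excess, excess, euler_iso e, euler_iso (M2.tensorIso e (Iso.refl E))]

variable [IsProper (X ↘ Spec (CommRingCat.of k))]

theorem excess_shortExact (hd : topologicalKrullDim X ≤ 1) {E : X.Modules} {n : ℕ}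
    (hE : FlatMod.IsFinLocFreeOfRank n E) {S : ShortComplex X.Modules} (hS : S.ShortExact)
    (h₁ : Coh.IsCoh S.X₁) (h₃ : Coh.IsCoh S.X₃) :
    excess k E n S.X₂ = excess k E n S.X₁ + excess k E n S.X₃ := by
  have hX := CurveAmple18.curveLike k X hd
  haveI := hX.noetherian
  have hT := shortExact_tensorR hS E fun x => Module.Flat.of_linearEquiv (nonempty_stalk_equiv hE x).some
  have e1 := euler_add hS (hX.adm h₁) (hX.adm h₃)
  have ho : ∀ M : X.Modules, (M2.tensorR E).obj M = CohB1.tensorMod M E := fun _ => rfl
  have a₁ : Adm k ((M2.tensorR E).obj S.X₁) := hX.adm (CurveCoh17.isCoh_tensor h₁ (isCoh_of_ofRank hE))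
  have a₃ : Adm k ((M2.tensorR E).obj S.X₃) := hX.adm (CurveCoh17.isCoh_tensor h₃ (isCoh_of_ofRank hE))
  have e2 := euler_add (k := k) (S := S.map (M2.tensorR E)) hT a₁ a₃
  simp only [ShortComplex.map_X₁, ShortComplex.map_X₂, ShortComplex.map_X₃, ho] at e2
  rw [excess, excess, excess, e1, e2]
  ring

theorem excess_suppIn (hd : topologicalKrullDim X ≤ 1) {E : X.Modules} {n : ℕ}
    (hE : FlatMod.IsFinLocFreeOfRank n E) {F : X.Modules} (hF : Coh.IsCoh F) {S : Finset X} (h : SuppIn F S) :
    excess k E n F = 0 := by
  have hX := CurveAmple18.curveLike k X hd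
  haveI := hX.noetherian
  haveI := hX.fin F hF 0
  haveI := h.finite_tensor (k := k) inferInstance E (nonempty_stalk_equiv hE)
  rw [excess, h.euler_eq (k := k) inferInstance, (h.tensor E).euler_eq (k := k) inferInstance,
    h.finrank_tensor inferInstance E (nonempty_stalk_equiv hE)]
  push_cast
  ring

omit [IsProper (X ↘ Spec (CommRingCat.of k))] in
/-- On a closed subscheme the excess of the structure sheaf is the degree. -/
theorem excess_push [C.Over (Spec (CommRingCat.of k))]
    (hi : i ≫ (X ↘ Spec (CommRingCat.of k)) = C ↘ Spec (CommRingCat.of k)) {E : X.Modules} {n : ℕ}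
    (hE : FlatMod.IsFinLocFreeOfRank n E) :
    excess k E n ((Scheme.Modules.pushforward i).obj (Coh.structureModule C)) =
      Curv2.deg k C ((Scheme.Modules.pullback i).obj E) n := by
  haveI := AmpleFin18.isIso_projHom_of_ofRank i E (Coh.structureModule C) hE
  rw [excess, Curv2.deg, AmpleFin18.euler_push i hi _ (M1.isQCoh_structureModule C),
    euler_iso (M2.tensorComm _ E ≪≫ asIso (AmpleFin18.projHom i E (Coh.structureModule C))),
    euler_iso ((Scheme.Modules.pushforward i).mapIso (M2.tensorRUnit _)),
    AmpleFin18.euler_push i hi _ (M1.isQCoh_pullback i (isCoh_of_ofRank hE).1)]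

/-- The reduced component. -/
noncomputable abbrev comp [IsNoetherian X] (Z : irreducibleComponents (X : Type u)) : Scheme.{u} :=
  (X.irreducibleComponentIdeal Z.1 Z.2).radical.subscheme

/-- Its inclusion. -/
noncomputable abbrev compι [IsNoetherian X] (Z : irreducibleComponents (X : Type u)) : comp Z ⟶ X :=
  (X.irreducibleComponentIdeal Z.1 Z.2).radical.subschemeι

omit [IsProper (X ↘ Spec (CommRingCat.of k))] [X.Over (Spec (CommRingCat.of k))] in
theorem range_compι [IsNoetherian X] (Z : irreducibleComponents (X : Type u)) :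
    Set.range (compι Z) = Z.1 := by
  rw [Scheme.IdealSheafData.range_subschemeι, Scheme.IdealSheafData.support_radical]
  rfl

omit [IsProper (X ↘ Spec (CommRingCat.of k))] [X.Over (Spec (CommRingCat.of k))] in
theorem isIntegral_comp [IsNoetherian X] (Z : irreducibleComponents (X : Type u)) : IsIntegral (comp Z) := by
  haveI : IsReduced (comp Z) := by
    show IsReduced (X.irreducibleComponentIdeal Z.1 Z.2).radical.subscheme
    rw [← Scheme.IdealSheafData.vanishingIdeal_support]
    exact RedSepLib.isReduced_vanishingIdeal_subscheme _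
  haveI : IrreducibleSpace (comp Z) := by
    have hemb := (compι Z).isClosedEmbedding.isEmbedding
    haveI : Nonempty (comp Z) := by
      obtain ⟨x, hx⟩ := Z.2.1.nonempty
      rw [← range_compι Z] at hx
      exact ⟨hx.choose⟩
    have hirr : IsPreirreducible (Set.univ : Set (comp Z)) := fun U V hU hV hUn hVn => by
      obtain ⟨U', hU', rfl⟩ := hemb.isInducing.isOpen_iff.1 hU
      obtain ⟨V', hV', rfl⟩ := hemb.isInducing.isOpen_iff.1 hV
      obtain ⟨a, -, ha⟩ := hUn
      obtain ⟨b, -, hb⟩ := hVn
      obtain ⟨z, hzZ, hzU, hzV⟩ := Z.2.1.isPreirreducible U' V' hU' hV'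
        ⟨compι Z a, range_compι Z ▸ ⟨a, rfl⟩, ha⟩ ⟨compι Z b, range_compι Z ▸ ⟨b, rfl⟩, hb⟩
      rw [← range_compι Z] at hzZ
      obtain ⟨c, rfl⟩ := hzZ
      exact ⟨c, trivial, hzU, hzV⟩
    haveI : PreirreducibleSpace (comp Z) := ⟨hirr⟩
    exact ⟨inferInstance⟩
  exact isIntegral_of_irreducibleSpace_of_isReduced _

omit [IsProper (X ↘ Spec (CommRingCat.of k))] [X.Over (Spec (CommRingCat.of k))] in
theorem compι_genericPoint [IsNoetherian X] (Z : irreducibleComponents (X : Type u)) :
    haveI := isIntegral_comp Z
    compι Z (genericPoint (comp Z)) = gen Z := by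
  haveI := isIntegral_comp Z
  have h := (genericPoint_spec (comp Z)).image (compι Z).continuous
  rw [Set.image_univ, range_compι, (isClosed_of_mem_irreducibleComponents _ Z.2).closure_eq] at h
  exact h.eq (isGenericPoint_gen Z)

variable (k) in
/-- The contribution of a component. -/
noncomputable def compDeg [IsNoetherian X] (E : X.Modules) (n : ℕ) (Z : irreducibleComponents (X : Type u)) : ℤ :=
  if topologicalKrullDim (Z.1 : Set X) = 1 then
    @Curv2.deg k _ (comp Z) ⟨compι Z ≫ (X ↘ Spec (CommRingCat.of k))⟩ ((Scheme.Modules.pullback (compι Z)).obj E) n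
  else 0

theorem finite_index [IsNoetherian X] : Finite (irreducibleComponents (X : Type u)) :=
  (NoetherianSpace.finite_irreducibleComponents (α := X)).to_subtype

/-- The excess is the weighted sum of the degrees on the components. -/
theorem excess_eq [IsNoetherian X] (hd : topologicalKrullDim X ≤ 1) {E : X.Modules} {n : ℕ}
    (hE : FlatMod.IsFinLocFreeOfRank n E) {F : X.Modules} (hF : Coh.IsCoh F) :
    excess k E n F = ∑ᶠ Z : irreducibleComponents (X : Type u), len F Z * compDeg k E n Z := by
  classical
  haveI := finite_index (X := X)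
  letI := Fintype.ofFinite (irreducibleComponents (X : Type u))
  simp only [finsum_eq_sum_of_fintype]
  let P : X.Modules → Prop := fun F => excess k E n F = ∑ Z, len F Z * compDeg k E n Z
  have hlen : ∀ {S : ShortComplex X.Modules}, S.ShortExact → Coh.IsCoh S.X₁ → Coh.IsCoh S.X₃ →
      ∑ Z, len S.X₂ Z * compDeg k E n Z =
        ∑ Z, len S.X₁ Z * compDeg k E n Z + ∑ Z, len S.X₃ Z * compDeg k E n Z := fun {S} hS a c => by
    simp only [len_shortExact hS a c, add_mul, Finset.sum_add_distrib]
  have hP : TwoOfThree P :=
    { of_isZero := fun M hM h0 => by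
        have hz : ∀ x : X, Subsingleton (M.presheaf.stalk x) := fun x =>
          AddCommGrpCat.subsingleton_of_isZero ((M1.stalkAb x).map_isZero h0)
        show excess k E n M = _
        rw [excess_suppIn hd hE hM (S := ∅) ⟨by simp, fun x _ a => @Subsingleton.elim _ (hz x) a 0⟩]
        simp [fun Z => len_eq_zero M Z (hz _)]
      mid := fun S hS a _ c p q => by
        show excess k E n S.X₂ = _
        rw [excess_shortExact hd hE hS a c, hlen hS a c, p, q]
      left := fun S hS a _ c p q => by
        show excess k E n S.X₁ = _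
        have h := excess_shortExact (k := k) hd hE hS a c
        rw [p, q, hlen hS a c] at h
        linarith
      right := fun S hS a _ c p q => by
        show excess k E n S.X₃ = _
        have h := excess_shortExact (k := k) hd hE hS a c
        rw [p, q, hlen hS a c] at h
        linarith }
  have hiso : ∀ M N : X.Modules, Nonempty (M ≅ N) → P M → P N := fun M N ⟨e⟩ h => by
    have hlen' : ∀ Z, len M Z = len N Z := fun Z => by
      simp only [len]
      rw [(LinearEquiv.ofBijective (CurveCoh17.stalkLin e.hom (gen Z)) ((M1.isIso_iff_stalk e.hom).1 inferInstance (gen Z))).length_eq]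
    show excess k E n N = _
    rw [← excess_iso E n e, h]
    simp only [hlen']
  refine hP.holds (fun η => ?_) hF
  by_cases hmax : ∀ y, y ⤳ η → y = η
  · obtain ⟨Z₀, hZ₀⟩ := exists_gen_specializes η
    have hgen : gen Z₀ = η := hmax _ hZ₀
    haveI := isIntegral_comp Z₀
    haveI : IsLocallyNoetherian (comp Z₀) := LocallyOfFiniteType.isLocallyNoetherian (compι Z₀)
    obtain ⟨g, hg, hgen', hkill⟩ := exists_cyclic_push_structureModule (compι Z₀)
    have hη : compι Z₀ (genericPoint (comp Z₀)) = η := (compι_genericPoint Z₀).trans hgen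
    subst hη
    refine ⟨HasModel.ofCyclic hiso _ (isCoh_push_closedImm (compι Z₀) (M1.isCoh_structureModule _))
      ((support_push_subset _ _).trans ?_) g hg hgen' hkill ?_⟩
    · rw [range_compι, hgen.symm, ← (isGenericPoint_gen Z₀).def]
    · show excess k E n _ = _
      rw [Finset.sum_eq_single Z₀ (fun Z _ hne => by
        rw [len_push_of_notMem (compι Z₀) _ Z fun hmem => hne (eq_gen_of_specializes Z₀ Z
          ((isGenericPoint_gen Z₀).specializes (range_compι Z₀ ▸ hmem))).symm, zero_mul])
        (fun h => (h (Finset.mem_univ _)).elim), len_push_self _ Z₀ (compι_genericPoint Z₀), one_mul, compDeg]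
      letI : (comp Z₀).Over (Spec (CommRingCat.of k)) := ⟨compι Z₀ ≫ (X ↘ Spec (CommRingCat.of k))⟩
      split_ifs with hdim
      · exact excess_push (compι Z₀) rfl hE
      · have hcl : ∀ y ∈ (Z₀.1 : Set X), y = gen Z₀ := fun y hy => by
          by_contra hne
          refine hdim (le_antisymm ((Topology.IsInducing.subtypeVal.topologicalKrullDim_le).trans hd) ?_)
          have h1 := Order.height_add_one_le (VarDim.lt_of_specializes_ne ((isGenericPoint_gen Z₀).specializes hy)
            (fun e => hne e))
          have h2 : ((1 : ℕ∞) : WithBot ℕ∞) ≤ (Order.height (gen Z₀) : WithBot ℕ∞) :=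
            WithBot.coe_le_coe.2 (le_trans (le_add_self) h1)
          exact h2.trans (ProjDeg17.height_le_dim_of_mem (isClosed_of_mem_irreducibleComponents _ Z₀.2)
            (isGenericPoint_gen Z₀).mem)
        refine excess_suppIn hd hE (isCoh_push_closedImm (compι Z₀) (M1.isCoh_structureModule _))
          (S := {gen Z₀}) ⟨fun x hx => ?_, fun x hx a => ?_⟩
        · rw [Finset.mem_singleton.1 hx, show ({gen Z₀} : Set X) = Z₀.1 from
            (Set.eq_singleton_iff_unique_mem.2 ⟨(isGenericPoint_gen Z₀).mem, hcl⟩).symm]
          exact isClosed_of_mem_irreducibleComponents _ Z₀.2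
        · refine M1.eq_zero_stalk_push (compι Z₀) _ (fun hr => hx (Finset.mem_singleton.2 ?_)) a
          rw [range_compι] at hr
          exact hcl x hr
  · have hηcl : IsClosed ({η} : Set X) := by
      push_neg at hmax
      obtain ⟨y, hy, hne⟩ := hmax
      by_contra hnc
      exact hne (Curve17.eq_of_specializes hd hnc hy)
    obtain ⟨W, i, hi, hW, hr, hη, -⟩ := exists_integral_point η
    haveI := hi
    haveI := hW
    haveI : IsLocallyNoetherian W := LocallyOfFiniteType.isLocallyNoetherian i
    obtain ⟨g, hg, hgen', hkill⟩ := exists_cyclic_push_structureModule i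
    subst hη
    have hrange : Set.range i = {i (genericPoint W)} := hr.trans hηcl.closure_eq
    refine ⟨HasModel.ofCyclic hiso _ (isCoh_push_closedImm i (M1.isCoh_structureModule _))
      ((support_push_subset _ _).trans hr.le) g hg hgen' hkill ?_⟩
    show excess k E n _ = _
    rw [excess_suppIn hd hE (isCoh_push_closedImm i (M1.isCoh_structureModule _)) (S := {i (genericPoint W)})
      ⟨fun x hx => by rw [Finset.mem_singleton.1 hx]; exact hηcl,
        fun x hx a => M1.eq_zero_stalk_push i _ (fun hr' => hx (Finset.mem_singleton.2 (hrange.le hr'))) a⟩]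
    refine (Finset.sum_eq_zero fun Z _ => ?_).symm
    rw [len_push_of_notMem i _ Z (fun hmem => hmax ((hrange.le hmem : gen Z = _) ▸
      fun y hy => eq_of_specializes_gen Z hy)), zero_mul]

end Groth.Agent.CompDeg18
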